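import Cfsg.Agent.RootInv.LineConnected
import Cfsg.Agent.RootInv.OddBasic

/-!
# Root structure: twins, isolated members of a member centraliser and the group they generate

Throughout, the twins of `d` are the members with the same commuting members as `d`; together with `1` they form a
subgroup.  The isolated members are those members commuting with `d` that form no odd pair with such a member.
-/

set_option autoImplicit false
set_option linter.unusedSectionVars false
set_option linter.unusedVariables false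
set_option linter.style.haveILetI false

open Subgroup
open Cfsg
open scoped commutatorElement

namespace Cfsg.Lib.RootInv.Structure

variable {G : Type*} [Group G] {D : Set G} {a b c d e f g k p q u v w x y z : G}

/-- The standing hypotheses. -/
structure Setting (D : Set G) : Prop where
  root : IsRootInvolutionSet D
  conj : ∀ a ∈ D, ∀ b ∈ D, ∃ g : G, b = g * a * g⁻¹
  four : ∃ p ∈ D, ∃ q ∈ D, orderOf (p * q) = 4
  gen : ∀ d ∈ D, ∀ x ∈ oddPartners D d, closure (productPartners D d ∪ {x}) = ⊤
  twins : ∀ d ∈ D, (sameCommutingSubgroup D d : Set G) = sameCommutingClass D d ∪ {1}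

/-- The members of `C_D(d)` without an odd partner among them. -/
def isolatedIn (D : Set G) (d : G) : Set G :=
  {w | IsIsolatedElem (OddAdj (commutingMembers D d)) (commutingMembers D d) w}

/-- The terms of the lower central series of the group generated by the isolated members. -/
abbrev gam (D : Set G) (d : G) (n : ℕ) : Subgroup G := (closure (isolatedIn D d)).lowerCentralSeries n

/-- Every centre of a four pair of `u` with a line partner of `e` is a twin of `e`. -/
def GoodAt (D : Set G) (e u : G) : Prop :=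
  ∀ z ∈ productPartners D e, ¬ Commute u z → (u * z) ^ 2 ∈ sameCommutingClass D e

/-! ### Involutions -/

theorem sq_eq_commutator (ha : a * a = 1) (hb : b * b = 1) : (a * b) ^ 2 = ⁅a, b⁆ := by
  rw [commutatorElement_def, inv_eq_of_mul_eq_one_right ha, inv_eq_of_mul_eq_one_right hb, pow_two]
  group

theorem conj_of_sq (ha : a * a = 1) (h : (a * b) ^ 2 = f) : b * a * b = a * f := by
  rw [← h, pow_two, show a * (a * b * (a * b)) = (a * a) * (b * a * b) by group, ha, one_mul]

theorem conj_of_sq' (hb : b * b = 1) (h : (a * b) ^ 2 = f) : a * b * a = f * b := by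
  rw [← h, pow_two, show a * b * (a * b) * b = a * b * a * (b * b) by group, hb, mul_one]

theorem commute_of_sq (ha : a * a = 1) (hb : b * b = 1) (h : (a * b) ^ 2 = 1) : Commute a b := by
  have h1 := conj_of_sq ha h
  rw [mul_one] at h1
  show a * b = b * a
  calc a * b = b * a * b * b := by rw [h1]
    _ = b * a * (b * b) := by group
    _ = _ := by rw [hb, mul_one]

theorem sq_of_commute (ha : a * a = 1) (hb : b * b = 1) (h : Commute a b) : (a * b) ^ 2 = 1 := by
  rw [h.mul_pow, pow_two, pow_two, ha, hb, one_mul]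

theorem sq_swap_inv (ha : a * a = 1) (hb : b * b = 1) : (b * a) ^ 2 = ((a * b) ^ 2)⁻¹ := by
  rw [← inv_pow, mul_inv_rev, inv_eq_of_mul_eq_one_right ha, inv_eq_of_mul_eq_one_right hb]

/-! ### Pairs, lines and twins -/

theorem ne_one (hD : IsRootInvolutionSet D) (ha : a ∈ D) : a ≠ 1 := fun h => by
  have := hD.orderOf_eq a ha
  rw [h, orderOf_one] at this
  norm_num at this

theorem four_mem (hD : IsRootInvolutionSet D) (ha : a ∈ D) (hb : b ∈ D) (h : orderOf (a * b) = 4) :
    (a * b) ^ 2 ∈ D := (four_mem_partners hD ha hb h).1.1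

theorem four_of (hD : IsRootInvolutionSet D) (ha : a ∈ D) (hb : b ∈ D) (hc : ¬ Commute a b)
    (hodd : ¬ OddAdj D a b) : orderOf (a * b) = 4 ∧ (a * b) ^ 2 ∈ D :=
  (not_adj_commute hD ha hb (fun h => hc (h ▸ Commute.refl a)) hodd).resolve_left hc

theorem partner_symm (hD : IsRootInvolutionSet D) (ha : a ∈ D) (hb : b ∈ productPartners D a) :
    a ∈ productPartners D b :=
  ⟨⟨ha, hb.1.2.1.symm, hb.1.2.2.symm⟩, by rw [← hb.1.2.1]; exact hb.2⟩

theorem partner_commute (hb : b ∈ productPartners D a) : Commute b a := hb.1.2.1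

/-- The centre of a four pair makes each of them a line partner of the centre. -/
theorem four_partner (hD : IsRootInvolutionSet D) (ha : a ∈ D) (hb : b ∈ D) (h : orderOf (a * b) = 4) :
    a ∈ productPartners D ((a * b) ^ 2) ∧ b ∈ productPartners D ((a * b) ^ 2) := by
  refine ⟨partner_symm hD ha (four_mem_partners hD ha hb h), ?_⟩
  have h' := four_mem_partners hD hb ha (by rw [orderOf_swap, h])
  rw [four_swap hD ha hb h (four_mem hD ha hb h)] at h'
  exact partner_symm hD hb h'

theorem twin_class_eq (hd : d ∈ D) (he : e ∈ sameCommutingClass D d) :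
    sameCommutingClass D e = sameCommutingClass D d := by
  ext k
  exact ⟨fun h => ⟨h.1, he.2.trans h.2⟩, fun h => ⟨h.1, he.2.symm.trans h.2⟩⟩

theorem twin_group_eq (hd : d ∈ D) (he : e ∈ sameCommutingClass D d) :
    sameCommutingSubgroup D e = sameCommutingSubgroup D d := by
  rw [sameCommutingSubgroup, sameCommutingSubgroup, twin_class_eq hd he]

theorem isolated_twin_eq (he : e ∈ sameCommutingClass D d) : isolatedIn D e = isolatedIn D d := by
  rw [isolatedIn, isolatedIn, he.2]

theorem gam_twin_eq (he : e ∈ sameCommutingClass D d) (n : ℕ) : gam D e n = gam D d n := by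
  rw [gam, gam, isolated_twin_eq he]

theorem mem_isolatedIn :
    w ∈ isolatedIn D d ↔ w ∈ D ∧ Commute w d ∧ ∀ y ∈ D, Commute y d → ¬ OddAdj D w y := by
  constructor
  · rintro ⟨⟨hw, hc⟩, hiso⟩
    exact ⟨hw, hc, fun y hy hyd h => (hiso y).1 ⟨⟨hw, hc⟩, ⟨hy, hyd⟩, h.2.2.1, h.2.2.2⟩⟩
  · rintro ⟨hw, hc, h⟩
    refine ⟨⟨hw, hc.eq⟩, fun y => ⟨fun ha => h y ha.2.1.1 ha.2.1.2 ⟨hw, ha.2.1.1, ha.2.2.1, ha.2.2.2⟩, fun ha => ?_⟩⟩
    have ha' := oddAdj_symm ha
    exact h y ha'.2.1.1 ha'.2.1.2 ⟨hw, ha'.2.1.1, ha'.2.2.1, ha'.2.2.2⟩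

theorem self_mem_isolated (hD : IsRootInvolutionSet D) (hd : d ∈ D) : d ∈ isolatedIn D d :=
  mem_isolatedIn.mpr ⟨hd, Commute.refl d, fun y _ hy h => odd_not_commute hD h hy.eq.symm⟩

theorem partner_mem_isolated (hD : IsRootInvolutionSet D) (hd : d ∈ D) (hb : b ∈ productPartners D d) :
    b ∈ isolatedIn D d :=
  mem_isolatedIn.mpr ⟨hb.1.1, hb.1.2.1, fun y _ hy h =>
    line_odd_commute hD h hd hb.1.2.1 (by rw [← hb.1.2.1]; exact hb.2) hy.symm⟩

theorem isolated_conj (hD : IsRootInvolutionSet D) (g : G) (hw : w ∈ isolatedIn D d) :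
    g * w * g⁻¹ ∈ isolatedIn D (g * d * g⁻¹) := by
  obtain ⟨hwD, hc, h⟩ := mem_isolatedIn.mp hw
  refine mem_isolatedIn.mpr ⟨hD.conj_mem w hwD g, hc.map (MulAut.conj g).toMonoidHom, fun y hy hyd hadj => ?_⟩
  refine h (g⁻¹ * y * g) ?_ ?_ ?_
  · have := hD.conj_mem y hy g⁻¹
    rwa [inv_inv] at this
  · have := hyd.map (MulAut.conj g⁻¹).toMonoidHom
    simpa [mul_assoc] using this
  · exact (adj_iff hwD).mpr ((mem_odd_conj hD g).mp ((adj_iff (hD.conj_mem w hwD g)).mp hadj))

variable [Finite G]

theorem twins_ncard_le (hD : IsRootInvolutionSet D) (hd : d ∈ D) (g : G) :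
    (sameCommutingClass D d).ncard ≤ (sameCommutingClass D (g * d * g⁻¹)).ncard :=
  Set.ncard_le_ncard_of_injOn (fun e => g * e * g⁻¹) (fun e he => twin_conj hD g he)
    (fun u _ v _ h => by simpa using h) (Set.toFinite _)

/-- A self-map of the twins that is injective is onto; more generally for two finite sets. -/
theorem exists_preimage {α : Type*} {s t : Set α} [Finite α] (φ : α → α) (hm : ∀ e ∈ s, φ e ∈ t)
    (hi : Set.InjOn φ s) (hle : t.ncard ≤ s.ncard) {r : α} (hr : r ∈ t) :
    ∃ e ∈ s, φ e = r := by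
  have h : φ '' s = t := Set.eq_of_subset_of_ncard_le (fun _ ⟨e, he, h⟩ => h ▸ hm e he)
    (by rw [hi.ncard_image]; exact hle) (Set.toFinite _)
  exact h.ge hr

theorem closure_isolated_props (hD : IsRootInvolutionSet D) (hd : d ∈ D) :
    IsPGroup 2 ↥(closure (isolatedIn D d)) ∧
    ∀ y ∈ D, y ∈ closure (isolatedIn D d) → y ∈ isolatedIn D d := by
  classical
  set T := commutingMembers D d with hT
  set H := closure T with hH
  set T' : Set H := H.subtype ⁻¹' T with hT'
  have hTH : ∀ y ∈ T, y ∈ H := fun y hy => subset_closure hy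
  have hHd : H ≤ centralizer ({d} : Set G) :=
    (closure_le _).2 fun y hy => mem_centralizer_singleton_iff.2 hy.2
  have hD' : IsRootInvolutionSet T' :=
    { orderOf_eq := fun y hy => by rw [← Subgroup.orderOf_coe]; exact hD.orderOf_eq _ hy.1
      generates := Subgroup.closure_preimage_eq_top T
      conj_mem := fun y hy g => by
        refine ⟨hD.conj_mem (y : G) hy.1 g, ?_⟩
        have hg : Commute (g : G) d := mem_centralizer_singleton_iff.1 (hHd g.2)
        exact ((hg.mul_left (show Commute (y : G) d from hy.2)).mul_left hg.inv_left).eq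
      pair := fun a ha b hb => by
        rcases hD.pair _ ha.1 _ hb.1 with h | h | ⟨h, h'⟩
        · exact Or.inl (Subtype.ext h)
        · refine Or.inr (Or.inl ?_)
          rw [← Subgroup.orderOf_coe]
          exact h
        · refine Or.inr (Or.inr ⟨by rw [← Subgroup.orderOf_coe]; exact h, h', ?_⟩)
          exact (((show Commute (a : G) d from ha.2).mul_left (show Commute (b : G) d from hb.2)).pow_left 2).eq }
  obtain ⟨-, -, hp, hint, -, -⟩ := isolated_props hD'
  have himg : H.subtype '' {w | IsIsolatedElem (OddAdj T') T' w} = isolatedIn D d := by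
    ext w
    constructor
    · rintro ⟨w', ⟨hw', hiso⟩, rfl⟩
      refine ⟨hw', fun y => ⟨fun h => ?_, fun h => ?_⟩⟩
      · exact (hiso ⟨y, hTH y h.2.1⟩).1 ⟨hw', h.2.1, fun e => h.2.2.1 (congrArg Subtype.val e),
          by rw [← Subgroup.orderOf_coe]; exact h.2.2.2⟩
      · exact (hiso ⟨y, hTH y h.1⟩).2 ⟨h.1, hw', fun e => h.2.2.1 (congrArg Subtype.val e),
          by rw [← Subgroup.orderOf_coe]; exact h.2.2.2⟩
    · rintro ⟨hw, hiso⟩
      refine ⟨⟨w, hTH w hw⟩, ⟨hw, fun y => ⟨fun h => ?_, fun h => ?_⟩⟩, rfl⟩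
      · exact (hiso y).1 ⟨hw, h.2.1, fun e => h.2.2.1 (Subtype.ext e),
          by have := h.2.2.2; rwa [← Subgroup.orderOf_coe] at this⟩
      · exact (hiso y).2 ⟨h.1, hw, fun e => h.2.2.1 (Subtype.ext e),
          by have := h.2.2.2; rwa [← Subgroup.orderOf_coe] at this⟩
  have hmap : (closure {w | IsIsolatedElem (OddAdj T') T' w}).map H.subtype = closure (isolatedIn D d) := by
    rw [MonoidHom.map_closure, himg]
  refine ⟨?_, fun y hy hyP => ?_⟩
  · rw [← hmap]
    exact hp.map H.subtype
  · rw [← hmap] at hyP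
    obtain ⟨y', hy', rfl⟩ := hyP
    have hyd : Commute (y' : G) d := mem_centralizer_singleton_iff.1 (hHd y'.2)
    rw [← himg]
    exact ⟨y', hint.le ⟨hy', hy, hyd.eq⟩, rfl⟩

namespace Setting

variable (S : Setting D)
include S

theorem twins_ncard (hd : d ∈ D) (he : e ∈ D) :
    (sameCommutingClass D e).ncard ≤ (sameCommutingClass D d).ncard := by
  obtain ⟨g, rfl⟩ := S.conj e he d hd
  exact twins_ncard_le S.root he g

theorem mem_twinGroup (hd : d ∈ D) :
    e ∈ sameCommutingSubgroup D d ↔ e ∈ sameCommutingClass D d ∨ e = 1 := by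
  rw [← SetLike.mem_coe, S.twins d hd]
  simp [or_comm]

theorem twin_mem_group (he : e ∈ sameCommutingClass D d) : e ∈ sameCommutingSubgroup D d := subset_closure he

theorem twin_of_group (hd : d ∈ D) (he : e ∈ sameCommutingSubgroup D d) (h1 : e ≠ 1) :
    e ∈ sameCommutingClass D d := ((S.mem_twinGroup hd).mp he).resolve_right h1

theorem group_commute (hd : d ∈ D) (he : e ∈ sameCommutingSubgroup D d) (hy : y ∈ D) (hyd : Commute y d) :
    Commute y e := by
  rcases (S.mem_twinGroup hd).mp he with h | rfl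
  · exact (commute_twin_iff h hy).1 hyd
  · exact Commute.one_right y

theorem group_mul_self (hd : d ∈ D) (he : e ∈ sameCommutingSubgroup D d) : e * e = 1 := by
  rcases (S.mem_twinGroup hd).mp he with h | rfl
  · exact mul_self S.root h.1
  · exact one_mul 1

theorem group_comm (hd : d ∈ D) (he : e ∈ sameCommutingSubgroup D d) (hk : k ∈ sameCommutingSubgroup D d) :
    Commute e k := by
  rcases (S.mem_twinGroup hd).mp he with h | rfl
  · exact S.group_commute hd hk h.1 (twins_commute' hd h).symm
  · exact Commute.one_left k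

theorem twin_of_odd_eq (hd : d ∈ D) (he : e ∈ D) (h : oddPartners D d = oddPartners D e) :
    e ∈ sameCommutingClass D d := ⟨he, (commuting_eq_iff S.root S.conj hd he).mpr h⟩

theorem twin_odd_eq (hd : d ∈ D) (he : e ∈ sameCommutingClass D d) : oddPartners D d = oddPartners D e :=
  (commuting_eq_iff S.root S.conj hd he.1).mp he.2

theorem twin_mem_isolated (hd : d ∈ D) (he : e ∈ sameCommutingClass D d) : e ∈ isolatedIn D d := by
  rw [← isolated_twin_eq he]
  exact self_mem_isolated S.root he.1

theorem twin_partner (hd : d ∈ D) (he : e ∈ sameCommutingClass D d) (hne : e ≠ d) : e ∈ productPartners D d := by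
  refine ⟨⟨he.1, (twins_commute' hd he).symm.eq, hne⟩, ?_⟩
  have h1 : e * d ≠ 1 := fun h => hne (by rw [eq_inv_of_mul_eq_one_left h, inv_eq S.root hd])
  exact (S.twin_of_group hd (mul_mem (twin_mem_group S he) (subset_closure (self_mem_twins hd))) h1).1

theorem isolated_mem (hw : w ∈ isolatedIn D d) : w ∈ D := (mem_isolatedIn.mp hw).1

theorem isolated_commute (hw : w ∈ isolatedIn D d) : Commute w d := (mem_isolatedIn.mp hw).2.1

theorem isolated_not_odd (hu : u ∈ isolatedIn D d) (hv : v ∈ isolatedIn D d) : ¬ OddAdj D u v :=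
  (mem_isolatedIn.mp hu).2.2 v (S.isolated_mem hv) (S.isolated_commute hv)

theorem isolated_four (hu : u ∈ isolatedIn D d) (hv : v ∈ isolatedIn D d) (h : ¬ Commute u v) :
    orderOf (u * v) = 4 ∧ (u * v) ^ 2 ∈ D :=
  four_of S.root (S.isolated_mem hu) (S.isolated_mem hv) h (S.isolated_not_odd hu hv)

theorem mem_isolated_of_group (hd : d ∈ D) (hy : y ∈ D) (h : y ∈ closure (isolatedIn D d)) :
    y ∈ isolatedIn D d := (closure_isolated_props S.root hd).2 y hy h

theorem commute_of_group (hd : d ∈ D) (he : e ∈ sameCommutingSubgroup D d) (hw : w ∈ isolatedIn D d) :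
    Commute w e := S.group_commute hd he (S.isolated_mem hw) (S.isolated_commute hw)

theorem gam_bot (hd : d ∈ D) : ∃ N, gam D d N = ⊥ := by
  haveI : Fact (Nat.Prime 2) := ⟨Nat.prime_two⟩
  haveI := (closure_isolated_props S.root hd).1.isNilpotent
  exact (Subgroup.isNilpotent_iff_lowerCentralSeries _).mp inferInstance

theorem gam_le (n : ℕ) : gam D d n ≤ closure (isolatedIn D d) := lowerCentralSeries_le_self _ n

theorem sq_mem_gam (ha : a ∈ D) (hb : b ∈ D) {n : ℕ} (h : a ∈ gam D d n)
    (h' : b ∈ closure (isolatedIn D d)) : (a * b) ^ 2 ∈ gam D d (n + 1) := by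
  rw [sq_eq_commutator (mul_self S.root ha) (mul_self S.root hb), gam, Subgroup.lowerCentralSeries_succ]
  exact commutator_mem_commutator h h'

theorem gam_conj (g : G) {n : ℕ} (hy : y ∈ gam D d n) : g * y * g⁻¹ ∈ gam D (g * d * g⁻¹) n := by
  have hle : (closure (isolatedIn D d)).map (MulAut.conj g).toMonoidHom ≤
      closure (isolatedIn D (g * d * g⁻¹)) := by
    rw [MonoidHom.map_closure]
    refine closure_mono ?_
    rintro _ ⟨w, hw, rfl⟩
    exact isolated_conj S.root g hw
  have h := mem_map_of_mem (MulAut.conj g).toMonoidHom hy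
  rw [gam, map_lowerCentralSeries] at h
  exact lowerCentralSeries_mono n hle h

theorem exists_four_partner (ha : a ∈ D) (hb : b ∈ productPartners D a) (hne : b ∉ sameCommutingClass D a) :
    ∃ g ∈ productPartners D a, orderOf (b * g) = 4 ∧ (b * g) ^ 2 = a :=
  exists_partner_swap S.root S.conj ha hb fun h => hne (S.twin_of_odd_eq ha hb.1.1 h)

end Setting

end Cfsg.Lib.RootInv.Structure
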