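import Cfsg.Agent.RootInv.Structure.Pairs

/-!
# Root structure: the descent along the lower central series

By descending induction along the lower central series of the group generated by the isolated members, every such
member outside the twins has only twins as centres of its four pairs with line partners.
-/

set_option autoImplicit false
set_option linter.unusedSectionVars false
set_option linter.unusedVariables false
set_option linter.style.haveILetI false

open Subgroup
open Cfsg

namespace Cfsg.Lib.RootInv.Structure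

variable {G : Type*} [Group G] [Finite G] {D : Set G} {a b c d e f g k p q s t u v w x y z : G} {n : ℕ}

/-- The induction statement. -/
def Ind (D : Set G) (n : ℕ) : Prop :=
  ∀ d ∈ D, ∀ u ∈ isolatedIn D d, u ∈ gam D d n → u ∉ sameCommutingClass D d →
    ∀ e ∈ sameCommutingClass D d, GoodAt D e u

/-- An element conjugating a member to an odd partner can be found in the group they generate. -/
theorem oddAdj_conj_mem (hD : IsRootInvolutionSet D) (h : OddAdj D a x) :
    ∃ g ∈ closure ({a, x} : Set G), x = g * a * g⁻¹ := by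
  obtain ⟨ha, hx, -, ⟨j, hj⟩⟩ := h
  refine ⟨(a * x) ^ j, pow_mem ((closure ({a, x} : Set G)).mul_mem (Subgroup.subset_closure (Set.mem_insert a {x})) (Subgroup.subset_closure (Set.mem_insert_of_mem a rfl))) j, ?_⟩
  have hinv : a * (a * x) * a⁻¹ = (a * x)⁻¹ := by
    rw [mul_inv_rev, inv_eq hD ha, inv_eq hD hx, ← mul_assoc, mul_self hD ha, one_mul]
  have h1 : a * ((a * x) ^ j)⁻¹ = (a * x) ^ j * a := by
    rw [← inv_pow, ← hinv, conj_pow, ← mul_assoc, ← mul_assoc, mul_self hD ha, one_mul, inv_eq hD ha]
  have h2 : (a * x) ^ (j + j) = (a * x)⁻¹ := by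
    rw [← two_mul, eq_inv_iff_mul_eq_one, ← pow_succ, ← hj, pow_orderOf_eq_one]
  rw [mul_assoc, h1, ← mul_assoc, ← pow_add, h2, mul_inv_rev, mul_assoc, inv_mul_cancel, mul_one, inv_eq hD hx]

theorem mem_normalizer_involution (A : Set G) (hg : g * g = 1) (h : ∀ y ∈ A, g * y * g ∈ A) :
    g ∈ normalizer A := by
  refine fun y => ?_
  rw [inv_eq_of_mul_eq_one_right hg]
  exact ⟨h y, fun hy => conj_self_inv hg y ▸ h _ hy⟩

namespace Setting

variable (S : Setting D)
include S

theorem line_of_ind (ih : Ind D n) (hd : d ∈ D) (hc : c ∈ isolatedIn D d) (hg : c ∈ gam D d n)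
    (hct : c ∉ sameCommutingClass D d) (he : e ∈ sameCommutingClass D d) : c ∈ productPartners D e := by
  obtain ⟨z, hz, hcz⟩ : ∃ z ∈ productPartners D d, ¬ Commute c z := by
    by_contra hno
    push Not at hno
    exact hct (S.central_twin hd (S.isolated_mem hc) (S.isolated_commute hc) hno)
  have hh := ih d hd c hc hg hct d (self_mem_twins hd) z hz hcz
  have h4 := (S.isolated_four hc (partner_mem_isolated S.root hd hz) hcz).1
  have hcX := (four_partner S.root (S.isolated_mem hc) hz.1.1 h4).1
  have htw := twin_class_eq hd hh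
  exact S.spread hh.1 hcX (by rw [htw]; exact hct) (ih d hd c hc hg hct _ hh) (by rw [htw]; exact he)

theorem exists_frame_of_ind (ih : Ind D n) (hd : d ∈ D) (hc : c ∈ isolatedIn D d) (hg : c ∈ gam D d n)
    (hct : c ∉ sameCommutingClass D d) : ∃ k x, Frame D d c k x :=
  exists_frame S hd hc hct (fun _ he => S.line_of_ind ih hd hc hg hct he) (ih d hd c hc hg hct)

theorem sq_mem_group (ih : Ind D n) (hd : d ∈ D) (hs : s ∈ isolatedIn D d) (hg : s ∈ gam D d n)
    (hy : y ∈ productPartners D d) : (s * y) ^ 2 ∈ sameCommutingSubgroup D d := by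
  by_cases hsy : Commute s y
  · rw [sq_of_commute (mul_self S.root (S.isolated_mem hs)) (mul_self S.root hy.1.1) hsy]
    exact one_mem _
  have hst : s ∉ sameCommutingClass D d := fun h => hsy ((commute_twin_iff h hy.1.1).1 hy.1.2.1).symm
  exact S.twin_mem_group (ih d hd s hs hg hst d (self_mem_twins hd) y hy hsy)

theorem sq_isolated (hd : d ∈ D) (hu : u ∈ isolatedIn D d) (hv : v ∈ isolatedIn D d) (hg : u ∈ gam D d n)
    (h : ¬ Commute u v) : (u * v) ^ 2 ∈ isolatedIn D d ∧ (u * v) ^ 2 ∈ gam D d (n + 1) := by
  have hgam := S.sq_mem_gam (S.isolated_mem hu) (S.isolated_mem hv) hg (Subgroup.subset_closure hv)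
  exact ⟨S.mem_isolated_of_group hd (S.isolated_four hu hv h).2 (S.gam_le _ hgam), hgam⟩

/-- Line partners of `d` in the term are good at `d`. -/
theorem partner_good (ih : Ind D (n + 1)) (hd : d ∈ D) (hu : u ∈ productPartners D d) (hg : u ∈ gam D d n) :
    GoodAt D d u := by
  intro z hz hnc
  by_contra hct
  obtain ⟨hc, hcg⟩ := S.sq_isolated hd (partner_mem_isolated S.root hd hu)
    (partner_mem_isolated S.root hd hz) hg hnc
  obtain ⟨k, x, F⟩ := S.exists_frame_of_ind ih hd hc hcg hct
  exact F.pair_kill hu hz rfl

end Setting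

namespace Frame

variable {k : G} (F : Frame D d c k x)
include F

/-- Off the lines of the twins, `z` is a line partner of every twin. -/
theorem z_partner (ih : Ind D (n + 1)) (hu : u ∈ isolatedIn D d) (hug : u ∈ gam D d n)
    (hz : z ∈ productPartners D d) (huz : (u * z) ^ 2 = c)
    (hno : ∀ e ∈ sameCommutingClass D d, u ∉ productPartners D e) (he : e ∈ sameCommutingClass D d) :
    z ∈ productPartners D e := by
  have S := F.setting
  obtain ⟨p, hp, rfl⟩ := F.exists_c_kap he
  have hp' := S.twin_mem_group hp
  have hzW := partner_mem_isolated S.root F.hd hz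
  have hkW := F.kap_isolated hp
  have huD := S.isolated_mem hu
  have hkD := S.isolated_mem hkW
  have uu := mul_self S.root huD
  have zz := mul_self S.root hz.1.1
  have kk : kap x p * kap x p = 1 := F.kap_sq hp'
  set kp := kap x p with hkp
  set h := (c * kp) ^ 2 with hhdef
  have hkck : kp * c * kp = c * h := F.kap_conj_c hp'
  -- the two commutators with `kp`
  set s := (u * kp) ^ 2 with hsdef
  set t := (z * kp) ^ 2 with htdef
  have hsW : s = 1 ∨ (s ∈ isolatedIn D d ∧ s ∈ gam D d (n + 1) ∧ s ∉ sameCommutingClass D d) := by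
    by_cases huk : Commute u kp
    · exact Or.inl (sq_of_commute uu kk huk)
    · obtain ⟨h1, h2⟩ := S.sq_isolated F.hd hu hkW hug huk
      exact Or.inr ⟨h1, h2, fun hst =>
        hno _ hst (four_partner S.root huD hkD (S.isolated_four hu hkW huk).1).1⟩
  have hsu : Commute s u ∧ Commute s kp ∧ s * s = 1 := by
    by_cases huk : Commute u kp
    · rw [hsdef, sq_of_commute uu kk huk]
      exact ⟨Commute.one_left u, Commute.one_left kp, one_mul 1⟩
    · obtain ⟨h1, h2, -, -⟩ := four_facts S.root huD hkD (S.isolated_four hu hkW huk).1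
      exact ⟨h1, h2, mul_self S.root (S.isolated_four hu hkW huk).2⟩
  have htz : Commute t z ∧ Commute t kp ∧ (t = 1 ∨ t ∈ isolatedIn D d) := by
    by_cases hzk : Commute z kp
    · rw [htdef, sq_of_commute zz kk hzk]
      exact ⟨Commute.one_left z, Commute.one_left kp, Or.inl rfl⟩
    · obtain ⟨h1, h2, -, -⟩ := four_facts S.root hz.1.1 hkD (S.isolated_four hzW hkW hzk).1
      refine ⟨h1, h2, Or.inr (S.mem_isolated_of_group F.hd (S.isolated_four hzW hkW hzk).2 ?_)⟩
      exact pow_mem (mul_mem (Subgroup.subset_closure hzW) (Subgroup.subset_closure hkW)) 2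
  have ha : (s * z) ^ 2 ∈ sameCommutingSubgroup D d := by
    rcases hsW with h1 | ⟨h1, h2, -⟩
    · rw [h1, one_mul, pow_two, zz]; exact one_mem _
    · exact S.sq_mem_group ih F.hd h1 h2 hz
  set a := (s * z) ^ 2 with hadef
  obtain ⟨su, sk, ss⟩ := hsu
  obtain ⟨tz, tk, ht⟩ := htz
  have eu : kp * u * kp = u * s := conj_of_sq uu rfl
  have ez : kp * z * kp = z * t := conj_of_sq zz rfl
  have es : z * s * z = s * a := conj_of_sq ss rfl
  have hsz : s * z = z * s * a := by
    rw [show s * z = (z * z) * (s * z) by rw [zz, one_mul], show z * z * (s * z) = z * (z * s * z) by group, es]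
    group
  have au : Commute a u := (S.commute_of_group F.hd ha hu).symm
  have az : Commute a z := (S.commute_of_group F.hd ha hzW).symm
  have ak : Commute a kp := (F.kap_commute_group hp' ha).symm
  have as' : Commute a s := by
    rcases hsW with h1 | ⟨h1, -, -⟩
    · rw [h1]; exact Commute.one_right a
    · exact (S.commute_of_group F.hd ha h1).symm
  have aa := S.group_mul_self F.hd ha
  have hch : c * h = u * s * (z * t) * (u * s * (z * t)) := by
    have e0 : kp * (u * z) * kp = u * s * (z * t) := by
      rw [← eu, ← ez, show (kp * u * kp) * (kp * z * kp) = kp * u * (kp * kp) * z * kp by group, kk]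
      group
    rw [← hkck, ← huz, pow_two, show kp * (u * z * (u * z)) * kp = kp * (u * z) * 1 * (u * z) * kp by group, ← kk,
      show kp * (u * z) * (kp * kp) * (u * z) * kp = (kp * (u * z) * kp) * (kp * (u * z) * kp) by group, e0]
  suffices hha : h = a by
    have hh := F.c_kap_mem hp
    rw [← hkp, ← hhdef, hha] at hh
    have hsz' : ¬ Commute s z := fun hc => ne_one S.root hh.1 (sq_of_commute ss zz hc)
    rcases hsW with h1 | ⟨h1, -, -⟩
    · exact absurd (h1 ▸ Commute.one_left z) hsz'
    · have := (four_partner S.root (S.isolated_mem h1) hz.1.1 (S.isolated_four h1 hzW hsz').1).2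
      rwa [← hadef, ← hha] at this
  -- `c h` in terms of `c` and `a`
  by_cases htE : t ∈ sameCommutingSubgroup D d
  · have tu : Commute t u := (S.commute_of_group F.hd htE hu).symm
    have ts : Commute t s := by
      rcases hsW with h1 | ⟨h1, -, -⟩
      · rw [h1]; exact Commute.one_right t
      · exact (S.commute_of_group F.hd htE h1).symm
    have tt := S.group_mul_self F.hd htE
    have e1 : u * s * (z * t) * (u * s * (z * t)) = u * z * (u * z) * a := by
      calc u * s * (z * t) * (u * s * (z * t)) = u * s * z * (t * (u * s * z)) * t := by group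
        _ = u * s * z * ((u * s * z) * t) * t := by rw [((tu.mul_right ts).mul_right tz).eq]
        _ = u * (s * z) * u * s * z * (t * t) := by group
        _ = u * (z * s * a) * u * s * z * 1 := by rw [hsz, tt]
        _ = u * z * s * (a * (u * s * z)) := by group
        _ = u * z * (s * u) * s * z * a := by rw [((au.mul_right as').mul_right az).eq]; group
        _ = u * z * u * (s * s) * z * a := by rw [su.eq]; group
        _ = _ := by rw [ss]; group
    rw [e1, ← pow_two, huz] at hch
    exact mul_left_cancel hch
  · rcases ht with h1 | htW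
    · exact absurd (h1 ▸ one_mem _) htE
    have htD := S.isolated_mem htW
    have tt := mul_self S.root htD
    have at' : Commute a t := (S.commute_of_group F.hd ha htW).symm
    have ts : Commute t s := by
      have e1 : z * t * s * (z * t) = s * a := by
        rw [← ez, show kp * z * kp * s * (kp * z * kp) = kp * z * (kp * s) * kp * z * kp by group, ← sk.eq,
          show kp * z * (s * kp) * kp * z * kp = kp * z * s * (kp * kp) * z * kp by group, kk, mul_one,
          show kp * z * s * z * kp = kp * (z * s * z) * kp by group, es,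
          ((sk.mul_left ak).symm).eq, mul_assoc, kk, mul_one]
      have e2 : t * (s * a) * t = s * a := by
        rw [← es, show t * (z * s * z) * t = t * z * s * (z * t) by group, tz.eq, e1, es]
      have e3 : t * s * t * a = s * a := by
        rw [show t * s * t * a = t * s * (t * a) by group, ← at'.eq, show t * s * (a * t) = t * (s * a) * t by group, e2]
      have e4 := mul_right_cancel e3
      show t * s = s * t
      calc t * s = t * s * (t * t) := by rw [tt, mul_one]
        _ = (t * s * t) * t := by group
        _ = s * t := by rw [e4]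
    set w := (u * t) ^ 2 with hwdef
    have hw : w = 1 ∨ (w ∈ isolatedIn D d ∧ w ∈ gam D d (n + 1) ∧ w ∉ sameCommutingClass D d) := by
      by_cases hut : Commute u t
      · exact Or.inl (sq_of_commute uu tt hut)
      · obtain ⟨h1, h2⟩ := S.sq_isolated F.hd hu htW hug hut
        exact Or.inr ⟨h1, h2, fun hwt =>
          hno _ hwt (four_partner S.root huD htD (S.isolated_four hu htW hut).1).1⟩
    have hwu : Commute w u ∧ Commute w t ∧ w * w = 1 := by
      by_cases hut : Commute u t
      · rw [hwdef, sq_of_commute uu tt hut]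
        exact ⟨Commute.one_left u, Commute.one_left t, one_mul 1⟩
      · obtain ⟨h1, h2, -, -⟩ := four_facts S.root huD htD (S.isolated_four hu htW hut).1
        exact ⟨h1, h2, mul_self S.root (S.isolated_four hu htW hut).2⟩
    obtain ⟨wu, wt, ww⟩ := hwu
    have ws : Commute w s := (su.symm.mul_left ts).pow_left 2
    have hb : (w * z) ^ 2 ∈ sameCommutingSubgroup D d := by
      rcases hw with h1 | ⟨h1, h2, -⟩
      · rw [h1, one_mul, pow_two, zz]; exact one_mem _
      · exact S.sq_mem_group ih F.hd h1 h2 hz
    set b := (w * z) ^ 2 with hbdef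
    have ew : z * w * z = w * b := conj_of_sq ww rfl
    have etu : t * u * t = u * w := conj_of_sq uu rfl
    have etz : t * z * t = z := by rw [tz.eq, mul_assoc, tt, mul_one]
    have aws : Commute a (w * s) := by
      refine Commute.mul_right ?_ as'
      rcases hw with h1 | ⟨h1, -, -⟩
      · rw [h1]; exact Commute.one_right a
      · exact (S.commute_of_group F.hd ha h1).symm
    have e1 : u * s * (z * t) * (u * s * (z * t)) = u * z * (u * z) * (w * b * a) := by
      calc u * s * (z * t) * (u * s * (z * t))
          = u * s * z * (t * u * (1 * s * (1 * z * t))) := by group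
        _ = u * s * z * (t * u * ((t * t) * s * ((t * t) * z * t))) := by rw [tt]
        _ = u * s * z * ((t * u * t) * ((t * s * t) * (t * z * t))) := by group
        _ = u * s * z * ((u * w) * (s * z)) := by
          rw [etu, etz, show t * s * t = s by rw [ts.eq, mul_assoc, tt, mul_one]]
        _ = u * (s * z) * u * w * s * z := by group
        _ = u * z * s * (a * u) * w * s * z := by rw [hsz]; group
        _ = u * z * (s * u) * (a * (w * s)) * z := by rw [au.eq]; group
        _ = u * z * (u * s) * ((w * s) * a) * z := by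
          rw [su.eq, aws.eq]
        _ = u * z * u * (s * (w * s)) * (a * z) := by group
        _ = u * z * u * (s * (s * w)) * (z * a) := by rw [ws.eq, az.eq]
        _ = u * z * u * (s * s) * (1 * w) * z * a := by group
        _ = u * z * u * ((z * z) * w) * z * a := by rw [ss, zz, mul_one]
        _ = u * z * (u * z) * (z * w * z) * a := by group
        _ = _ := by rw [ew]; group
    rw [e1, ← pow_two, huz] at hch
    have e5 : h = w * b * a := mul_left_cancel hch
    have hwE : w ∈ sameCommutingSubgroup D d := by
      have e6 : w = h * a⁻¹ * b⁻¹ := by rw [e5]; group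
      rw [e6]
      exact mul_mem (mul_mem (F.c_kap_mem_group hp') (inv_mem ha)) (inv_mem hb)
    rcases hw with h1 | ⟨h1, -, h3⟩
    · rw [e5, hbdef, h1, one_mul, one_mul, pow_two, zz, one_mul]
    · exact absurd (S.twin_of_group F.hd hwE (ne_one S.root (S.isolated_mem h1))) h3

/-- There is no `g` on the lines of all twins, odd with `x`, and moved by `c`. -/
theorem centre_false (hu : u ∈ isolatedIn D d) (hgl : ∀ e ∈ sameCommutingClass D d, g ∈ productPartners D e)
    (hgx : OddAdj D g x) (hug : (u * g) ^ 2 = c) : False := by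
  have S := F.setting
  have hgD := hgx.1
  have hgW : g ∈ isolatedIn D d := partner_mem_isolated S.root F.hd (hgl d (self_mem_twins F.hd))
  have hw : ∀ e ∈ sameCommutingClass D d, ∃ p ∈ sameCommutingClass D d, (g * kap x p) ^ 2 = e :=
    fun e he => F.exists_kap_witness hgW hgx he (hgl e he).2
  choose! φ hφ hφe using hw
  have hg2 : ∀ p ∈ sameCommutingClass D d, (g * kap x p) ^ 2 ∈ sameCommutingClass D d := by
    intro p hp
    obtain ⟨e, he, rfl⟩ := exists_preimage φ hφ
      (fun e he e' he' h => by rw [← hφe e he, ← hφe e' he', h]) le_rfl hp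
    rw [hφe e he]
    exact he
  have hg2' : ∀ q ∈ sameCommutingSubgroup D d, (g * kap x q) ^ 2 ∈ sameCommutingSubgroup D d ∧
      ((g * kap x q) ^ 2 = 1 → q = 1) := by
    intro q hq
    rcases (S.mem_twinGroup F.hd).mp hq with h | rfl
    · exact ⟨S.twin_mem_group (hg2 q h), fun h1 => absurd h1 (ne_one S.root (hg2 q h).1)⟩
    · rw [F.kap_one, mul_one, pow_two, mul_self S.root hgD]
      exact ⟨one_mem _, fun _ => rfl⟩
  set A : Set G := {y | ∃ p ∈ sameCommutingSubgroup D d, ∃ q ∈ sameCommutingSubgroup D d, y = p * kap x q}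
  have xx := mul_self S.root F.hx
  have gg := mul_self S.root hgD
  have cc := mul_self S.root F.hcD
  have hxA : x ∈ normalizer A := mem_normalizer_involution A xx fun y hy => by
    obtain ⟨p, hp, q, hq, rfl⟩ := hy
    refine ⟨p, hp, p * q, mul_mem hp hq, ?_⟩
    rw [F.kap_mul hp hq, show x * (p * kap x q) * x = x * p * (kap x q * x) by group, (F.kap_commute_x hq).eq,
      show x * p * (x * kap x q) = x * p * x * kap x q by group, F.conj_x hp, mul_assoc]
  have hstep : ∀ r : G, r * r = 1 → (∀ p ∈ sameCommutingSubgroup D d, Commute r p) →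
      (∀ q ∈ sameCommutingSubgroup D d, (r * kap x q) ^ 2 ∈ sameCommutingSubgroup D d) → r ∈ normalizer A := by
    intro r rr hr hr2
    refine mem_normalizer_involution A rr fun y hy => ?_
    obtain ⟨p, hp, q, hq, rfl⟩ := hy
    refine ⟨p * (r * kap x q) ^ 2, mul_mem hp (hr2 q hq), q, hq, ?_⟩
    rw [show r * (p * kap x q) * r = r * p * kap x q * r by group, (hr p hp).eq,
      show p * r * kap x q * r = p * (r * kap x q * r) by group, conj_of_sq' (F.kap_sq hq) rfl, mul_assoc]
  have hcA : c ∈ normalizer A := hstep c cc (fun p hp => F.c_commute hp) fun q hq => F.c_kap_mem_group hq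
  have hgA : g ∈ normalizer A :=
    hstep g gg (fun p hp => S.commute_of_group F.hd hp hgW) fun q hq => (hg2' q hq).1
  obtain ⟨u₁, hu₁, hxu₁⟩ := oddAdj_conj_mem S.root (oddAdj_symm F.hxc)
  obtain ⟨u₂, hu₂, hgu₂⟩ := oddAdj_conj_mem S.root (oddAdj_symm hgx)
  have hu₁A : u₁ ∈ normalizer A := (closure_le (normalizer A)).2
    (by rintro y (rfl | rfl); exacts [hcA, hxA]) hu₁
  have hu₂A : u₂ ∈ normalizer A := (closure_le (normalizer A)).2
    (by rintro y (rfl | rfl); exacts [hxA, hgA]) hu₂
  have hdd : d ∈ sameCommutingSubgroup D d := S.twin_mem_group (self_mem_twins F.hd)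
  have hdA : d ∈ A := ⟨d, hdd, 1, one_mem _, by rw [F.kap_one, mul_one]⟩
  obtain ⟨p, hp, q, hq, hpq⟩ := (hu₁A d).1 hdA
  have hcx : Commute (p * kap x q) x := by
    have := (F.c_commute hdd).symm.map (MulAut.conj u₁).toMonoidHom
    simpa [← hpq, ← hxu₁] using this
  have hp1 : p = 1 := by
    refine F.eq_one_of_kap hp ?_
    have h1 : p * kap x p * kap x q = p * kap x q := by
      rw [← F.conj_x hp, show x * p * x * kap x q = x * p * (x * kap x q) by group, ← (F.kap_commute_x hq).eq,
        show x * p * (kap x q * x) = x * (p * kap x q * x) by group, hcx.eq, ← mul_assoc, xx, one_mul]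
    exact mul_left_cancel ((mul_right_cancel h1).trans (mul_one p).symm)
  rw [hp1, one_mul] at hpq hcx
  obtain ⟨p', hp', q', hq', hpq'⟩ := (hu₂A _).1 (show u₁ * d * u₁⁻¹ ∈ A from (hu₁A d).1 hdA)
  have hcg : Commute (p' * kap x q') g := by
    have := hcx.map (MulAut.conj u₂).toMonoidHom
    simpa [← hpq', ← hpq, ← hgu₂] using this
  have hq1 : q' = 1 := by
    refine (hg2' q' hq').2 ?_
    have h1 : p' * ((g * kap x q') ^ 2 * kap x q') = p' * (1 * kap x q') := by
      rw [← conj_of_sq' (F.kap_sq hq') rfl, one_mul,
        show p' * (g * kap x q' * g) = (p' * g) * kap x q' * g by group, ← (S.commute_of_group F.hd hp' hgW).eq,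
        show g * p' * kap x q' * g = g * (p' * kap x q' * g) by group, hcg.eq, ← mul_assoc, gg, one_mul]
    exact mul_right_cancel (mul_left_cancel h1)
  rw [hq1, F.kap_one, mul_one] at hpq'
  set τ := u₂ * u₁
  have hτd : τ * d * τ⁻¹ = p' := by
    show u₂ * u₁ * d * (u₂ * u₁)⁻¹ = p'
    rw [← hpq']; group
  have hτc : τ * c * τ⁻¹ = g := by
    show u₂ * u₁ * c * (u₂ * u₁)⁻¹ = g
    rw [hgu₂, hxu₁]; group
  have hτt : τ * d * τ⁻¹ ∈ sameCommutingClass D d := by
    rw [hτd]
    exact S.twin_of_group F.hd hp' (hτd ▸ ne_one S.root (S.root.conj_mem d F.hd τ))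
  have hall : ∀ m, g ∈ gam D d m := by
    intro m
    induction m with
    | zero => exact Subgroup.subset_closure hgW
    | succ m ihm =>
      have hc' := S.sq_mem_gam hgD (S.isolated_mem hu) ihm (Subgroup.subset_closure hu)
      rw [sq_swap_inv (mul_self S.root (S.isolated_mem hu)) gg, hug, inv_eq S.root F.hcD] at hc'
      have := S.gam_conj τ hc'
      rwa [hτc, gam_twin_eq hτt] at this
  obtain ⟨N, hN⟩ := S.gam_bot F.hd
  exact ne_one S.root hgD (mem_bot.mp (hN ▸ hall N))

end Frame

namespace Setting

variable (S : Setting D)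
include S

theorem ind_step (ih : Ind D (n + 1)) : Ind D n := by
  intro d₀ hd₀ u hu₀ hug₀ hut₀ d he z hz hnc
  have hd := he.1
  have hu : u ∈ isolatedIn D d := by rwa [isolated_twin_eq he]
  have hug : u ∈ gam D d n := by rwa [gam_twin_eq he]
  have hut : u ∉ sameCommutingClass D d := by rwa [twin_class_eq hd₀ he]
  by_contra hct
  have hzW := partner_mem_isolated S.root hd hz
  obtain ⟨hc, hcg⟩ := S.sq_isolated hd hu hzW hug hnc
  obtain ⟨k, x, F⟩ := S.exists_frame_of_ind ih hd hc hcg hct
  have hno : ∀ e ∈ sameCommutingClass D d, u ∉ productPartners D e := by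
    intro e he' hue
    have htw := twin_class_eq hd he'
    have hgood := S.partner_good ih he'.1 hue (by rw [gam_twin_eq he']; exact hug)
    have huX := S.spread he'.1 hue (by rw [htw]; exact hut) hgood (by rw [htw]; exact self_mem_twins hd)
    exact hct (S.partner_good ih hd huX hug z hz hnc)
  obtain ⟨g, hg, -, hgx, -, -, -, hug'⟩ := F.odd_choice hu hz rfl
  refine F.centre_false hu (fun e he' => ?_) hgx hug'
  have hze := F.z_partner ih hu hug hz rfl hno he'
  rcases hg with rfl | rfl
  · exact hze
  · have huD := S.isolated_mem hu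
    have h4 := (S.isolated_four hu hzW hnc).1
    have hzu : (z * u) ^ 2 = (u * z) ^ 2 := four_swap S.root huD hz.1.1 h4 (four_mem S.root huD hz.1.1 h4)
    have h' := conj_mem_partners S.root u hze
    have hue : u * e * u = e := by
      rw [(S.commute_of_group hd (S.twin_mem_group he') hu).eq, mul_assoc, mul_self S.root huD, mul_one]
    rwa [inv_eq S.root huD, hue, conj_of_sq (mul_self S.root hz.1.1) hzu] at h'

/-- Every isolated member outside the twins is good at all twins. -/
theorem ind_zero : Ind D 0 := by
  classical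
  choose! N hN using fun d (hd : d ∈ D) => S.gam_bot hd
  haveI := Fintype.ofFinite G
  set M := Finset.univ.sup N
  suffices h : ∀ j n, M ≤ n + j → Ind D n from h M 0 (by omega)
  intro j
  induction j with
  | zero =>
    intro n hn d hd u hu hug hut
    have hle : N d ≤ n := (Finset.le_sup (f := N) (Finset.mem_univ d)).trans (by omega : M ≤ n)
    have h1 : u ∈ gam D d (N d) := Subgroup.lowerCentralSeries_antitone _ hle hug
    rw [hN d hd, mem_bot] at h1
    exact absurd h1 (ne_one S.root (S.isolated_mem hu))
  | succ j ihj => exact fun n hn => S.ind_step (ihj (n + 1) (by omega))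

end Setting

end Cfsg.Lib.RootInv.Structure
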