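import Cfsg.Agent.RootInv.Structure.Basic

/-!
# Root structure: two four pairs through a common line, central members, spreading over the twins

If `d`, `c` is a four pair with centre `e` and `e`, `g` one with centre `d`, then `g` and `c` form an odd pair.
A member commuting with `d` and all its line partners is a twin of `d`.  A line partner of `e` all whose four pairs
with line partners of `e` have a twin of `e` as centre is a line partner of every twin of `e`.
-/

set_option autoImplicit false
set_option linter.unusedSectionVars false
set_option linter.unusedVariables false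
set_option linter.style.haveILetI false

open Subgroup
open Cfsg

namespace Cfsg.Lib.RootInv.Structure

variable {G : Type*} [Group G] {D : Set G} {a b c d e f g k p q u v w x y z : G}

/-- Two four pairs on one line, each centred at an end of the other, give an odd pair. -/
theorem engine (hD : IsRootInvolutionSet D) (hd : d ∈ D) (hc : c ∈ D) (hg : g ∈ D) (h1 : orderOf (d * c) = 4)
    (he : (d * c) ^ 2 = e) (h2 : orderOf (e * g) = 4) (h3 : (e * g) ^ 2 = d) : OddAdj D g c := by
  have heD : e ∈ D := he ▸ four_mem hD hd hc h1
  obtain ⟨ed', ec', -, hdc⟩ := four_facts hD hd hc h1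
  rw [he] at ed' ec'
  obtain ⟨de', dg', -, heg⟩ := four_facts hD heD hg h2
  rw [h3] at de' dg'
  have ndg : Commute d g := dg'
  rcases hD.pair g hg c hc with h | h | ⟨h4, hk⟩
  · exfalso
    have : Commute g ((d * c) ^ 2) := (ndg.symm.mul_right h).pow_right 2
    rw [he] at this
    exact heg this.eq.symm
  · exact ⟨hg, hc, fun e' => hdc (e' ▸ ndg).eq, h⟩
  · exfalso
    obtain ⟨kg', kc', -, -⟩ := four_facts hD hg hc h4
    set k := (g * c) ^ 2 with hkdef
    have dd := mul_self hD hd
    have cc := mul_self hD hc
    have gg := mul_self hD hg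
    have ee := mul_self hD heD
    have kk := mul_self hD hk
    have cgc : c * g * c = g * k := conj_of_sq gg rfl
    have cdc : c * d * c = d * e := conj_of_sq dd he
    have geg : g * e * g = e * d := conj_of_sq ee h3
    have dcd : d * c * d = e * c := conj_of_sq' cc he
    have ege : e * g * e = d * g := conj_of_sq' gg h3
    have dgd : d * g * d = g := by rw [ndg.eq, mul_assoc, dd, mul_one]
    have h5 : d * (g * k) * d = g * k * (d * e) := by
      calc d * (g * k) * d = d * (c * g * c) * d := by rw [cgc]
        _ = (d * c * d) * (d * g * d) * (d * c * d) := by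
          rw [show (d * c * d) * (d * g * d) * (d * c * d) = d * c * (d * d) * g * (d * d) * c * d by group, dd]
          group
        _ = e * c * g * (e * c) := by rw [dcd, dgd]
        _ = (c * e) * g * (e * c) := by rw [ec'.eq]
        _ = c * (e * g * e) * c := by group
        _ = c * (d * g) * c := by rw [ege]
        _ = c * (g * d) * c := by rw [ndg.eq]
        _ = (c * g * c) * (c * d * c) := by
          rw [show (c * g * c) * (c * d * c) = c * g * (c * c) * d * c by group, cc]
          group
        _ = g * k * (d * e) := by rw [cgc, cdc]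
    have h6 : d * e = k⁻¹ * (g⁻¹ * (d * (g * k) * d)) := by rw [h5]; group
    have hgk : Commute g (d * (g * k) * d) :=
      (ndg.symm.mul_right ((Commute.refl g).mul_right kg'.symm)).mul_right ndg.symm
    have hgde : Commute g (d * e) := by
      rw [h6]
      exact kg'.symm.inv_right.mul_right ((Commute.refl g).inv_right.mul_right hgk)
    have hge : Commute g e := by
      have h7 := ndg.symm.mul_right hgde
      rwa [← mul_assoc, dd, one_mul] at h7
    exact heg hge.eq.symm

variable [Finite G]

namespace Setting

variable (S : Setting D)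
include S

/-- A member commuting with a member and its line partners cannot commute with an odd partner of it. -/
theorem not_commute_all (hd : d ∈ D) (hw : w ∈ D) (hX : ∀ b ∈ productPartners D d, Commute w b)
    (hdx : OddAdj D d x) (hwx : Commute w x) : False := by
  obtain ⟨k, hk⟩ := not_all_commute S.root S.four hw S.conj
  refine hk ?_
  have hle : closure (productPartners D d ∪ {x}) ≤ centralizer ({w} : Set G) := (closure_le _).2 fun y hy => by
    rcases hy with hy | hy
    · exact mem_centralizer_singleton_iff.2 (hX y hy).eq.symm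
    · rw [Set.mem_singleton_iff.1 hy]
      exact mem_centralizer_singleton_iff.2 hwx.eq.symm
  rw [S.gen d hd x ((adj_iff hd).mp hdx)] at hle
  exact (mem_centralizer_singleton_iff.1 (hle (mem_top k))).symm

/-- A member commuting with `d` and all line partners of `d` is a twin of `d`. -/
theorem central_twin (hd : d ∈ D) (hw : w ∈ D) (hwd : Commute w d)
    (hX : ∀ b ∈ productPartners D d, Commute w b) : w ∈ sameCommutingClass D d := by
  by_contra hne
  obtain ⟨x, hx, hxw⟩ : ∃ x ∈ oddPartners D d, x ∉ oddPartners D w := by
    by_contra hno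
    push Not at hno
    exact hne (S.twin_of_odd_eq hd hw (odd_eq_of_subset S.root S.conj hd hw hno))
  have hdx := (adj_iff hd).mpr hx
  have hnc : ¬ Commute w x := fun h => S.not_commute_all hd hw hX hdx h
  obtain ⟨h4, hc⟩ := four_of S.root hw hx.1 hnc fun h => hxw ((adj_iff hw).mp h)
  obtain ⟨cw, cx, -, -⟩ := four_facts S.root hw hx.1 h4
  set c := (w * x) ^ 2 with hcdef
  have hwc : w * c ∈ D := four_line S.root hw hx.1 h4 hc
  have hcxD : c * x ∈ D := by
    have h' := four_mem_partners S.root hx.1 hw (by rw [orderOf_swap, h4])
    rw [four_swap S.root hw hx.1 h4 hc] at h'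
    exact h'.2
  rcases S.root.pair d hd c hc with h | h | ⟨h4', he⟩
  · exact line_odd_commute S.root (oddAdj_symm hdx) hc cx.symm hcxD (show Commute d c from h).symm
  · by_cases hdc : d = c
    · exact line_odd_commute S.root (oddAdj_symm hdx) hc cx.symm hcxD (hdc ▸ Commute.refl c)
    · exact S.not_commute_all hd hw hX ⟨hd, hc, hdc, h⟩ cw.symm
  · have heX := four_mem_partners S.root hd hc h4'
    obtain ⟨ed, ec, -, hdc⟩ := four_facts S.root hd hc h4'
    have hne' : (d * c) ^ 2 ∉ sameCommutingClass D d := fun h =>
      hdc ((commute_twin_iff h hc).2 ec.symm).eq.symm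
    obtain ⟨g, hg, hg4, hge⟩ := S.exists_four_partner hd heX hne'
    have hgc := engine S.root hd hc hg.1.1 h4' rfl hg4 hge
    exact line_odd_commute S.root (oddAdj_symm hgc) hw cw hwc (hX g hg)

/-- A good line partner of `e` outside the twins of `e` is a line partner of every twin of `e`. -/
theorem spread (he : e ∈ D) (hu : u ∈ productPartners D e) (hut : u ∉ sameCommutingClass D e)
    (hgood : GoodAt D e u) (hf : f ∈ sameCommutingClass D e) : u ∈ productPartners D f := by
  have huD := hu.1.1
  have hue : Commute u e := partner_commute hu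
  obtain ⟨k₀, hk₀, hk4, hke⟩ := S.exists_four_partner he hu hut
  obtain ⟨-, -, -, huk⟩ := four_facts S.root huD hk₀.1.1 hk4
  have hne : e ∉ sameCommutingClass D k₀ := fun h => huk ((commute_twin_iff h huD).2 hue).eq
  obtain ⟨x, hx, hx4, hxk⟩ := S.exists_four_partner hk₀.1.1 (partner_symm S.root he hk₀) hne
  have hxD := hx.1.1
  have hke' : (k₀ * u) ^ 2 = e := by
    rw [four_swap S.root huD hk₀.1.1 hk4 (four_mem S.root huD hk₀.1.1 hk4), hke]
  have hxu : OddAdj D x u := engine S.root hk₀.1.1 huD hxD (by rw [orderOf_swap, hk4]) hke' hx4 hxk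
  obtain ⟨-, -, -, hex⟩ := four_facts S.root he hxD hx4
  -- for every twin of `x`
  have key : ∀ x' ∈ sameCommutingClass D x, (e * x') ^ 2 ∈ productPartners D e ∧ Commute ((e * x') ^ 2) x' ∧
      ¬ Commute u ((e * x') ^ 2) ∧ x' * e * x' = e * (e * x') ^ 2 := by
    intro x' hx'
    have hoe := S.twin_odd_eq hxD hx'
    have hxu' : OddAdj D x' u := (adj_iff hx'.1).mpr (hoe ▸ (adj_iff hxD).mp hxu)
    have hnc : ¬ Commute e x' := fun h => hex ((commute_twin_iff hx' he).2 h).eq
    have hnodd : ¬ OddAdj D e x' := fun h => by
      have h' := (adj_iff hx'.1).mp (oddAdj_symm h)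
      rw [← hoe] at h'
      obtain ⟨i, hi⟩ := h'.2.2
      rw [orderOf_swap, hx4] at hi
      omega
    obtain ⟨h4, hk⟩ := four_of S.root he hx'.1 hnc hnodd
    obtain ⟨-, f2, -, -⟩ := four_facts S.root he hx'.1 h4
    refine ⟨four_mem_partners S.root he hx'.1 h4, f2, fun h => ?_, conj_of_sq (mul_self S.root he) rfl⟩
    refine line_odd_commute S.root hxu' hk f2.symm ?_ h.symm
    have h' := four_mem_partners S.root hx'.1 he (by rw [orderOf_swap, h4])
    rw [four_swap S.root he hx'.1 h4 hk] at h'
    exact h'.2
  set h : G → G := fun x' => (u * (e * x') ^ 2) ^ 2 with hh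
  have hmap : ∀ x' ∈ sameCommutingClass D x, h x' ∈ sameCommutingClass D e := fun x' hx' =>
    hgood _ (key x' hx').1 (key x' hx').2.2.1
  have hinj : Set.InjOn h (sameCommutingClass D x) := by
    intro p hp q hq hpq
    by_contra hne'
    have hpm := mul_mem (twin_mem_group S hp) (twin_mem_group S hq)
    have h1 : p * q ≠ 1 := fun h1 => hne' (by rw [eq_inv_of_mul_eq_one_left h1, inv_eq S.root hq.1])
    have hr := S.twin_of_group hxD hpm h1
    obtain ⟨kp, cp, -, ep⟩ := key p hp
    obtain ⟨kq, cq, -, eq'⟩ := key q hq
    obtain ⟨-, -, hno, er⟩ := key (p * q) hr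
    set k' := (e * p) ^ 2
    set k'' := (e * q) ^ 2
    have hck : Commute k' q :=
      (commute_twin_iff (twin_trans (twin_symm hxD hp) hq) kp.1.1).1 cp
    have hpq' : Commute p q := twins_commute_pair hxD hp hq
    have ee := mul_self S.root he
    have hsq : (e * (p * q)) ^ 2 = k' * k'' := by
      have pp := mul_self S.root hp.1
      have qq := mul_self S.root hq.1
      have hkq : Commute k' e := partner_commute kp
      have e1 : (p * q) * e * (p * q) = e * (k' * k'') := by
        calc (p * q) * e * (p * q) = p * (q * e * q) * p := by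
              conv_lhs => arg 2; rw [hpq'.eq]
              group
          _ = p * (e * k'') * p := by rw [eq']
          _ = (p * e * p) * (p * k'' * p) := by
              rw [show (p * e * p) * (p * k'' * p) = p * e * (p * p) * k'' * p by group, pp, mul_one]
              group
          _ = e * k' * k'' := by
              rw [ep, show p * k'' * p = k'' by
                rw [((commute_twin_iff (twin_trans (twin_symm hxD hq) hp) kq.1.1).1 cq).symm.eq, mul_assoc, pp, mul_one]]
          _ = _ := by group
      rw [pow_two, show e * (p * q) * (e * (p * q)) = e * ((p * q) * e * (p * q)) by group, e1, ← mul_assoc, ee,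
        one_mul]
    refine hno ?_
    rw [hsq]
    simp only [hh] at hpq
    have uu := mul_self S.root huD
    have e2 : k' * u * k' = k'' * u * k'' := by
      rw [conj_of_sq uu rfl, conj_of_sq (b := k'') uu rfl, hpq]
    have k1 := mul_self S.root kp.1.1
    have k2 := mul_self S.root kq.1.1
    show u * (k' * k'') = k' * k'' * u
    calc u * (k' * k'') = (k' * k') * u * (k' * k'') := by rw [k1, one_mul]
      _ = k' * (k' * u * k') * k'' := by group
      _ = k' * (k'' * u * k'') * k'' := by rw [e2]
      _ = k' * k'' * u * (k'' * k'') := by group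
      _ = _ := by rw [k2, mul_one]
  obtain ⟨x', hx', rfl⟩ := exists_preimage h hmap hinj (S.twins_ncard hxD he) hf
  obtain ⟨hkp, -, hnc, -⟩ := key x' hx'
  have hW : orderOf (u * (e * x') ^ 2) = 4 ∧ (u * (e * x') ^ 2) ^ 2 ∈ D :=
    S.isolated_four (partner_mem_isolated S.root he hu) (partner_mem_isolated S.root he hkp) hnc
  exact (four_partner S.root huD hkp.1.1 hW.1).1

end Setting

end Cfsg.Lib.RootInv.Structure
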