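import Cfsg.Agent.RootInv.Structure.Descent

/-!
# The root structure theorem
-/

set_option autoImplicit false
set_option linter.unusedSectionVars false
set_option linter.unusedVariables false
set_option linter.style.haveILetI false

open Subgroup
open Cfsg
open scoped commutatorElement

namespace Cfsg.Lib.RootInv.Structure

variable {G : Type*} [Group G] [Finite G] {D : Set G} {a b d e u v w : G}

namespace Setting

variable (S : Setting D)
include S

theorem isolated_eq (hd : d ∈ D) : isolatedIn D d = productPartners D d ∪ {d} := by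
  ext w
  constructor
  · intro hw
    by_cases hwt : w ∈ sameCommutingClass D d
    · by_cases hwd : w = d
      · exact Or.inr hwd
      · exact Or.inl (S.twin_partner hd hwt hwd)
    · exact Or.inl (S.line_of_ind S.ind_zero hd hw (Subgroup.subset_closure hw) hwt (self_mem_twins hd))
  · rintro (h | h)
    · exact partner_mem_isolated S.root hd h
    · rw [Set.mem_singleton_iff.1 h]
      exact self_mem_isolated S.root hd

theorem group_commute_closure (hd : d ∈ D) (he : e ∈ sameCommutingSubgroup D d)
    (hv : v ∈ closure (isolatedIn D d)) : Commute e v := by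
  have hle : closure (isolatedIn D d) ≤ centralizer ({e} : Set G) := (closure_le _).2 fun w hw =>
    mem_centralizer_singleton_iff.2 (S.commute_of_group hd he hw).eq
  exact (mem_centralizer_singleton_iff.1 (hle hv)).symm

theorem pair_commutator_mem (hd : d ∈ D) (hu : u ∈ isolatedIn D d) (hv : v ∈ isolatedIn D d) :
    ⁅u, v⁆ ∈ sameCommutingSubgroup D d := by
  have uu := mul_self S.root (S.isolated_mem hu)
  have vv := mul_self S.root (S.isolated_mem hv)
  rw [← sq_eq_commutator uu vv]
  by_cases hc : Commute u v
  · rw [sq_of_commute uu vv hc]; exact one_mem _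
  have hvX : v ∈ productPartners D d := by
    rcases (S.isolated_eq hd).le hv with h | h
    · exact h
    · rw [Set.mem_singleton_iff.1 h] at hc
      exact absurd (S.isolated_commute hu) hc
  exact S.sq_mem_group S.ind_zero hd hu (Subgroup.subset_closure hu) hvX

theorem commutator_le_group (hd : d ∈ D) :
    ⁅closure (isolatedIn D d), closure (isolatedIn D d)⁆ ≤ sameCommutingSubgroup D d := by
  set P := closure (isolatedIn D d)
  set E := sameCommutingSubgroup D d
  have hcen : ∀ e ∈ E, ∀ v ∈ P, v * e * v⁻¹ = e := fun e he v hv => by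
    rw [← (S.group_commute_closure hd he hv).eq, mul_inv_cancel_right]
  -- fixed generator on the left
  have h1 : ∀ u ∈ isolatedIn D d, ∀ v ∈ P, ⁅u, v⁆ ∈ E := by
    intro u hu v hv
    induction hv using Subgroup.closure_induction with
    | mem w hw => exact S.pair_commutator_mem hd hu hw
    | one => simp [commutatorElement_def]
    | mul p q hp _ ihp ihq =>
      rw [show ⁅u, p * q⁆ = ⁅u, p⁆ * (p * ⁅u, q⁆ * p⁻¹) by simp only [commutatorElement_def]; group,
        hcen _ ihq p hp]
      exact mul_mem ihp ihq
    | inv p hp ihp =>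
      rw [show ⁅u, p⁻¹⁆ = p⁻¹ * ⁅u, p⁆⁻¹ * p⁻¹⁻¹ by simp only [commutatorElement_def]; group,
        hcen _ (inv_mem ihp) p⁻¹ (inv_mem hp)]
      exact inv_mem ihp
  rw [Subgroup.commutator_le]
  intro g hg v hv
  induction hg using Subgroup.closure_induction with
  | mem w hw => exact h1 w hw v hv
  | one => simp [commutatorElement_def]
  | mul p q hp _ ihp ihq =>
    rw [show ⁅p * q, v⁆ = (p * ⁅q, v⁆ * p⁻¹) * ⁅p, v⁆ by simp only [commutatorElement_def]; group,
      hcen _ ihq p hp]
    exact mul_mem ihq ihp
  | inv p hp ihp =>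
    rw [show ⁅p⁻¹, v⁆ = p⁻¹ * ⁅p, v⁆⁻¹ * p⁻¹⁻¹ by simp only [commutatorElement_def]; group,
      hcen _ (inv_mem ihp) p⁻¹ (inv_mem hp)]
    exact inv_mem ihp

theorem twin_mem_commutator (hd : d ∈ D) (he : e ∈ sameCommutingClass D d) :
    e ∈ ⁅closure (isolatedIn D d), closure (isolatedIn D d)⁆ := by
  obtain ⟨p, hp, q, hq, h⟩ := S.four
  obtain ⟨g, hg⟩ := S.conj _ (four_mem S.root hp hq h) e he.1
  obtain ⟨h1, h2⟩ := four_partner S.root hp hq h
  have ha := conj_mem_partners S.root g h1
  have hb := conj_mem_partners S.root g h2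
  rw [← hg] at ha hb
  have haW := partner_mem_isolated S.root he.1 ha
  have hbW := partner_mem_isolated S.root he.1 hb
  rw [isolated_twin_eq he] at haW hbW
  have h3 := commutator_mem_commutator (Subgroup.subset_closure (k := isolatedIn D d) haW)
    (Subgroup.subset_closure (k := isolatedIn D d) hbW)
  rw [← sq_eq_commutator (mul_self S.root ha.1.1) (mul_self S.root hb.1.1),
    show g * p * g⁻¹ * (g * q * g⁻¹) = g * (p * q) * g⁻¹ by group, conj_pow, ← hg] at h3
  exact h3

/-- The root structure theorem. -/
theorem structure_theorem (hd : d ∈ D) :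
    closure (isolatedIn D d) = closure (productPartners D d ∪ {d}) ∧
    D ∩ (closure (productPartners D d ∪ {d}) : Set G) = productPartners D d ∪ {d} ∧
    ⁅closure (productPartners D d ∪ {d}), closure (productPartners D d ∪ {d})⁆ = sameCommutingSubgroup D d ∧
    sameCommutingClass D d = {e | e ∈ D ∧ e ∈ closure (productPartners D d ∪ {d}) ∧
      ∀ y ∈ closure (productPartners D d ∪ {d}), e * y = y * e} := by
  rw [← S.isolated_eq hd]
  refine ⟨rfl, ?_, ?_, ?_⟩
  · ext y
    exact ⟨fun h => S.mem_isolated_of_group hd h.1 h.2, fun h => ⟨S.isolated_mem h, Subgroup.subset_closure h⟩⟩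
  · exact le_antisymm (S.commutator_le_group hd)
      ((closure_le _).2 fun e he => S.twin_mem_commutator hd he)
  · ext e
    constructor
    · intro he
      exact ⟨he.1, Subgroup.subset_closure (S.twin_mem_isolated hd he),
        fun y hy => (S.group_commute_closure hd (S.twin_mem_group he) hy).eq⟩
    · rintro ⟨he, -, hc⟩
      exact S.central_twin hd he (hc d (Subgroup.subset_closure (self_mem_isolated S.root hd)))
        fun b hb => hc b (Subgroup.subset_closure (partner_mem_isolated S.root hd hb))

end Setting

end Cfsg.Lib.RootInv.Structure
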