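import Cfsg.Agent.RootInv.Structure.Engine

/-!
# Root structure: the frame of a centre outside the twins

A centre `c` that is a line partner of all twins of `d` has a partner `k` with `(c k)² = d` and a member `x`, odd
with `c`, with `(d x)² = k`.  The map `p ↦ (p x)²` embeds the twins of `d` in the members commuting with `x`, and
`p ↦ (c (p x)²)²` permutes the twins of `d`.
-/

set_option autoImplicit false
set_option linter.unusedSectionVars false
set_option linter.unusedVariables false
set_option linter.style.haveILetI false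

open Subgroup
open Cfsg

namespace Cfsg.Lib.RootInv.Structure

variable {G : Type*} [Group G] [Finite G] {D : Set G} {a b c d e f g k p q u v w x y z : G}

/-- The data attached to a centre `c`. -/
structure Frame (D : Set G) (d c k x : G) : Prop where
  setting : Setting D
  hd : d ∈ D
  hc : c ∈ isolatedIn D d
  line : ∀ e ∈ sameCommutingClass D d, c ∈ productPartners D e
  good : ∀ e ∈ sameCommutingClass D d, GoodAt D e c
  hk : k ∈ productPartners D d
  hx : x ∈ D
  hdx : orderOf (d * x) = 4
  hxk : (d * x) ^ 2 = k
  hck : (c * k) ^ 2 = d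
  hxc : OddAdj D x c

/-- The centre of the four pair of a twin with `x`. -/
def kap (x p : G) : G := (p * x) ^ 2

theorem exists_frame (S : Setting D) (hd : d ∈ D) (hc : c ∈ isolatedIn D d) (hct : c ∉ sameCommutingClass D d)
    (line : ∀ e ∈ sameCommutingClass D d, c ∈ productPartners D e)
    (good : ∀ e ∈ sameCommutingClass D d, GoodAt D e c) : ∃ k x, Frame D d c k x := by
  have hcX := line d (self_mem_twins hd)
  have hcD := hcX.1.1
  obtain ⟨k, hk, hk4, hkd⟩ := S.exists_four_partner hd hcX hct
  obtain ⟨-, -, -, hck⟩ := four_facts S.root hcD hk.1.1 hk4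
  have hne : d ∉ sameCommutingClass D k := fun h => hck ((commute_twin_iff h hcD).2 hcX.1.2.1).eq
  obtain ⟨x, hx, hx4, hxk⟩ := S.exists_four_partner hk.1.1 (partner_symm S.root hd hk) hne
  have hkc : (k * c) ^ 2 = d := by
    rw [four_swap S.root hcD hk.1.1 hk4 (four_mem S.root hcD hk.1.1 hk4), hkd]
  exact ⟨k, x, S, hd, hc, line, good, hk, hx.1.1, hx4, hxk, hkd,
    engine S.root hk.1.1 hcD hx.1.1 (by rw [orderOf_swap, hk4]) hkc hx4 hxk⟩

namespace Frame

variable {k : G} (F : Frame D d c k x)
include F

theorem hcD : c ∈ D := F.setting.isolated_mem F.hc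

theorem kap_one : kap x (1 : G) = 1 := by
  rw [kap, one_mul, pow_two, mul_self F.setting.root F.hx]

theorem kap_self : kap x d = k := F.hxk

theorem four_x (hp : p ∈ sameCommutingClass D d) : orderOf (p * x) = 4 ∧ (p * x) ^ 2 ∈ D := by
  refine four_of F.setting.root hp.1 F.hx (fun h => ?_) fun h => ?_
  · exact (four_facts F.setting.root F.hd F.hx F.hdx).2.2.2 ((commute_twin_iff hp F.hx).2 h.symm).eq.symm
  · have h' := (adj_iff hp.1).mp h
    rw [← F.setting.twin_odd_eq F.hd hp] at h'
    obtain ⟨i, hi⟩ := h'.2.2
    rw [F.hdx] at hi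
    omega

theorem kap_partner (hp : p ∈ sameCommutingClass D d) : kap x p ∈ productPartners D p :=
  four_mem_partners F.setting.root hp.1 F.hx (F.four_x hp).1

theorem kap_isolated (hp : p ∈ sameCommutingClass D d) : kap x p ∈ isolatedIn D d := by
  rw [← isolated_twin_eq hp]
  exact partner_mem_isolated F.setting.root hp.1 (F.kap_partner hp)

theorem kap_line (hp : p ∈ sameCommutingClass D d) : kap x p * x ∈ D := by
  have h := F.four_x hp
  have h' := four_mem_partners F.setting.root F.hx hp.1 (by rw [orderOf_swap, h.1])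
  rw [four_swap F.setting.root hp.1 F.hx h.1 h.2] at h'
  exact h'.2

theorem kap_mem_closure (hp : p ∈ sameCommutingSubgroup D d) : kap x p ∈ closure (isolatedIn D d) := by
  rcases (F.setting.mem_twinGroup F.hd).mp hp with h | rfl
  · exact subset_closure (F.kap_isolated h)
  · rw [F.kap_one]; exact one_mem _

theorem kap_commute_group (hp : p ∈ sameCommutingSubgroup D d) (hq : q ∈ sameCommutingSubgroup D d) :
    Commute (kap x p) q := by
  rcases (F.setting.mem_twinGroup F.hd).mp hp with h | rfl
  · exact F.setting.commute_of_group F.hd hq (F.kap_isolated h)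
  · rw [F.kap_one]; exact Commute.one_left q

theorem kap_commute_x (hp : p ∈ sameCommutingSubgroup D d) : Commute (kap x p) x := by
  rcases (F.setting.mem_twinGroup F.hd).mp hp with h | rfl
  · exact (four_facts F.setting.root h.1 F.hx (F.four_x h).1).2.1
  · rw [F.kap_one]; exact Commute.one_left x

theorem conj_x (hp : p ∈ sameCommutingSubgroup D d) : x * p * x = p * kap x p :=
  conj_of_sq (F.setting.group_mul_self F.hd hp) rfl

theorem conj_p (hp : p ∈ sameCommutingSubgroup D d) : p * x * p = kap x p * x :=
  conj_of_sq' (mul_self F.setting.root F.hx) rfl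

theorem kap_mul (hp : p ∈ sameCommutingSubgroup D d) (hq : q ∈ sameCommutingSubgroup D d) :
    kap x (p * q) = kap x p * kap x q := by
  have hpq := mul_mem hp hq
  have h1 : p * q * kap x (p * q) = p * q * (kap x p * kap x q) := by
    calc p * q * kap x (p * q) = x * (p * q) * x := (F.conj_x hpq).symm
      _ = (x * p * x) * (x * q * x) := by
        rw [show (x * p * x) * (x * q * x) = x * p * (x * x) * q * x by group, mul_self F.setting.root F.hx]
        group
      _ = p * kap x p * (q * kap x q) := by rw [F.conj_x hp, F.conj_x hq]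
      _ = p * (kap x p * q) * kap x q := by group
      _ = p * (q * kap x p) * kap x q := by rw [(F.kap_commute_group hp hq).eq]
      _ = _ := by group
  exact mul_left_cancel h1

theorem kap_sq (hp : p ∈ sameCommutingSubgroup D d) : kap x p * kap x p = 1 := by
  rw [← F.kap_mul hp hp, F.setting.group_mul_self F.hd hp, F.kap_one]

theorem kap_comm (hp : p ∈ sameCommutingSubgroup D d) (hq : q ∈ sameCommutingSubgroup D d) :
    Commute (kap x p) (kap x q) := by
  show _ = _
  rw [← F.kap_mul hp hq, ← F.kap_mul hq hp, (F.setting.group_comm F.hd hp hq).eq]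

theorem eq_one_of_kap (hp : p ∈ sameCommutingSubgroup D d) (h : kap x p = 1) : p = 1 := by
  rcases (F.setting.mem_twinGroup F.hd).mp hp with h' | rfl
  · exact absurd h (ne_one F.setting.root (F.four_x h').2)
  · rfl

theorem kap_not_commute_c (hp : p ∈ sameCommutingClass D d) : ¬ Commute c (kap x p) := fun h =>
  line_odd_commute F.setting.root F.hxc (F.four_x hp).2
    (F.kap_commute_x (F.setting.twin_mem_group hp)).symm (F.kap_line hp) h.symm

theorem c_kap_mem (hp : p ∈ sameCommutingClass D d) : (c * kap x p) ^ 2 ∈ sameCommutingClass D d := by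
  have h := F.good p hp _ (F.kap_partner hp) (F.kap_not_commute_c hp)
  rwa [twin_class_eq F.hd hp] at h

theorem c_kap_mem_group (hp : p ∈ sameCommutingSubgroup D d) :
    (c * kap x p) ^ 2 ∈ sameCommutingSubgroup D d := by
  rcases (F.setting.mem_twinGroup F.hd).mp hp with h | rfl
  · exact F.setting.twin_mem_group (F.c_kap_mem h)
  · rw [F.kap_one, mul_one, pow_two, mul_self F.setting.root F.hcD]; exact one_mem _

theorem c_commute (he : e ∈ sameCommutingSubgroup D d) : Commute c e := F.setting.commute_of_group F.hd he F.hc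

theorem kap_conj_c (hp : p ∈ sameCommutingSubgroup D d) :
    kap x p * c * kap x p = c * (c * kap x p) ^ 2 := conj_of_sq (mul_self F.setting.root F.hcD) rfl

theorem c_kap_injOn : Set.InjOn (fun p => (c * kap x p) ^ 2) (sameCommutingClass D d) := by
  intro p hp q hq h
  have key : ∀ r ∈ sameCommutingClass D d, r ∈ swapSet D c x := fun r hr =>
    ⟨hr.1, F.c_commute (F.setting.twin_mem_group hr),
      (partner_symm F.setting.root hr.1 (F.line r hr)).2, fun ho => by
        obtain ⟨i, hi⟩ := ho.2.2.2
        rw [(F.four_x hr).1] at hi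
        omega⟩
  exact swap_injective F.setting.root (oddAdj_symm F.hxc) (key p hp) (key q hq) h

theorem exists_c_kap (he : e ∈ sameCommutingClass D d) :
    ∃ p ∈ sameCommutingClass D d, (c * kap x p) ^ 2 = e :=
  exists_preimage (fun p => (c * kap x p) ^ 2) (fun p hp => F.c_kap_mem hp) F.c_kap_injOn le_rfl he

/-- On a line at a member odd with `x`, the exchanged partner is the image of a twin. -/
theorem exists_kap_witness (ha : a ∈ isolatedIn D d) (hax : OddAdj D a x) (he : e ∈ sameCommutingClass D d)
    (hae : a * e ∈ D) : ∃ p ∈ sameCommutingClass D d, (a * kap x p) ^ 2 = e := by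
  have S := F.setting
  have hcomm : Commute a e := S.commute_of_group F.hd (S.twin_mem_group he) ha
  have hes : e ∈ swapSet D a x := ⟨he.1, hcomm, by rw [← hcomm.eq]; exact hae, fun ho => by
    obtain ⟨i, hi⟩ := ho.2.2.2
    rw [(F.four_x he).1] at hi
    omega⟩
  have hsurj : Set.SurjOn (fun d => (a * (d * x) ^ 2) ^ 2) (swapSet D a x) (swapSet D a x) :=
    ((Set.toFinite _).injOn_iff_bijOn_of_mapsTo fun r hr => (swap_step S.root hax hr).2.2.2.2).mp
      (swap_injective S.root hax) |>.surjOn
  obtain ⟨s, hs, hse⟩ := hsurj hes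
  simp only at hse
  obtain ⟨hqD, -, hqx, hq4, -⟩ := swap_step S.root hax hs
  have hs4 := (line_four S.root hax hs.1 hs.2.1 hs.2.2.1 hs.2.2.2).1
  have hqxD : (s * x) ^ 2 * x ∈ D := by
    have h' := four_mem_partners S.root F.hx hs.1 (by rw [orderOf_swap, hs4])
    rw [four_swap S.root hs.1 F.hx hs4 hqD] at h'
    exact h'.2
  set q := (s * x) ^ 2 with hqdef
  have hqX : q ∈ productPartners D e := hse ▸ (four_partner S.root hax.1 hqD hq4).2
  have hqW : q ∈ isolatedIn D d := by
    rw [← isolated_twin_eq he]
    exact partner_mem_isolated S.root he.1 hqX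
  have hncq : ¬ Commute c q := fun h => line_odd_commute S.root F.hxc hqD hqx.symm hqxD h.symm
  have hh := F.good e he q hqX hncq
  rw [twin_class_eq F.hd he] at hh
  obtain ⟨p, hp, hpf⟩ := F.exists_c_kap hh
  have hp' := S.twin_mem_group hp
  refine ⟨p, hp, ?_⟩
  have cc := mul_self S.root F.hcD
  have e1 : q * c * q = c * (c * q) ^ 2 := conj_of_sq cc rfl
  have e2 : kap x p * c * kap x p = c * (c * q) ^ 2 := by rw [F.kap_conj_c hp', hpf]
  have hqp : Commute q p := S.commute_of_group F.hd hp' hqW
  have kk := F.kap_sq hp'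
  have qq := mul_self S.root hqD
  have hvc : Commute (q * kap x p) c := by
    set h := (c * q) ^ 2
    have hqh : Commute q h := S.commute_of_group F.hd (S.twin_mem_group hh) hqW
    have e3 : kap x p * c = c * h * kap x p := by
      rw [← e2, mul_assoc _ (kap x p) (kap x p), kk, mul_one]
    have e4 : q * c = c * h * q := by rw [← e1, mul_assoc _ q q, qq, mul_one]
    show q * kap x p * c = c * (q * kap x p)
    calc q * kap x p * c = (q * c) * h * kap x p := by rw [mul_assoc q, e3]; group
      _ = c * (h * (q * h)) * kap x p := by rw [e4]; group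
      _ = c * ((h * h) * q) * kap x p := by rw [hqh.eq]; group
      _ = _ := by rw [mul_self S.root hh.1, one_mul]; group
  have hvx : Commute (q * kap x p) x := hqx.mul_left (F.kap_commute_x hp')
  have hvD : q * kap x p * x ∈ D := by
    have e5 : q * kap x p * x = p * (q * x) * p := by
      rw [show p * (q * x) * p = (p * q) * x * p by group, hqp.symm.eq, mul_assoc q, ← F.conj_p hp']
      group
    rw [e5]
    exact conj_mem_inv S.root (mul_self S.root hp.1) hqxD
  have hv2 : q * kap x p * (q * kap x p) = 1 := by
    have h' := mul_self S.root hvD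
    rw [show q * kap x p * x * (q * kap x p * x) = q * kap x p * (x * (q * kap x p)) * x by group, ← hvx.eq,
      show q * kap x p * (q * kap x p * x) * x = q * kap x p * (q * kap x p) * (x * x) by group,
      mul_self S.root F.hx, mul_one] at h'
    exact h'
  have hv := shift_eq_one S.root F.hxc hv2 hvx hvc hvD
  have hq : q = kap x p := by
    rw [eq_inv_of_mul_eq_one_left hv, inv_eq_of_mul_eq_one_right kk]
  rw [← hq]
  exact hse

/-- The centre of `a` and `k` is a twin. -/
theorem core (ha : a ∈ productPartners D d) (hac : Commute a c) (hax : OddAdj D a x) (hb : b ∈ isolatedIn D d)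
    (hbc : Commute b c) (hbab : b * a * b = a * c) : (a * k) ^ 2 ∈ sameCommutingClass D d := by
  have S := F.setting
  have haW := partner_mem_isolated S.root F.hd ha
  set H := {e | e ∈ sameCommutingClass D d ∧ a * e ∈ D}
  have hw : ∀ e ∈ H, ∃ p ∈ sameCommutingClass D d, (a * kap x p) ^ 2 = e :=
    fun e he => F.exists_kap_witness haW hax he.1 he.2
  choose! φ hφ hφe using hw
  have hmap : ∀ e ∈ H, (c * kap x (φ e)) ^ 2 ∈ H := by
    intro e he
    have hp := hφ e he
    have hp' := S.twin_mem_group hp
    refine ⟨F.c_kap_mem hp, ?_⟩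
    have hh := S.twin_mem_group (F.c_kap_mem hp)
    have he' := S.twin_mem_group he.1
    set h := (c * kap x (φ e)) ^ 2
    set q := kap x (φ e) with hqdef
    have aa := mul_self S.root ha.1.1
    have e1 : q * a * q = a * e := conj_of_sq aa (hφe e he)
    have e2 : q * c * q = c * h := F.kap_conj_c hp'
    have qq : q * q = 1 := F.kap_sq hp'
    have bb := mul_self S.root (S.isolated_mem hb)
    have hqh : Commute q (e * h) := F.kap_commute_group hp' (mul_mem he' hh)
    have hbh : Commute b (e * h) := S.commute_of_group F.hd (mul_mem he' hh) hb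
    have hacD : a * c ∈ D := hbab ▸ conj_mem_inv S.root bb ha.1.1
    have h1 : a * c * (e * h) ∈ D := by
      have := conj_mem_inv S.root qq hacD
      rwa [show q * (a * c) * q = q * a * (1 * c) * q by group, ← qq,
        show q * a * (q * q * c) * q = (q * a * q) * (q * c * q) by group, e1, e2,
        show a * e * (c * h) = a * (e * c) * h by group, ← (F.c_commute he').eq,
        show a * (c * e) * h = a * c * (e * h) by group] at this
    have hbac : b * (a * c) * b = a := by rw [← hbab, conj_self_inv bb]
    have h2 : a * (e * h) ∈ D := by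
      have := conj_mem_inv S.root bb h1
      rwa [show b * (a * c * (e * h)) * b = b * (a * c) * ((e * h) * b) by group, ← hbh.eq,
        show b * (a * c) * (b * (e * h)) = b * (a * c) * b * (e * h) by group, hbac] at this
    have h3 := conj_mem_inv S.root qq h2
    rwa [show q * (a * (e * h)) * q = q * a * ((e * h) * q) by group, ← hqh.eq,
      show q * a * (q * (e * h)) = q * a * q * (e * h) by group, e1,
      show a * e * (e * h) = a * (e * e) * h by group, S.group_mul_self F.hd he', mul_one] at h3
  have hinj : Set.InjOn (fun e => (c * kap x (φ e)) ^ 2) H := fun e he e' he' h => by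
    rw [← hφe e he, ← hφe e' he', F.c_kap_injOn (hφ e he) (hφ e' he') h]
  have hdH : d ∈ H := ⟨self_mem_twins F.hd, ha.2⟩
  obtain ⟨e, he, hed⟩ := exists_preimage _ hmap hinj le_rfl hdH
  have hd' : φ e = d := F.c_kap_injOn (hφ e he) (self_mem_twins F.hd)
    (by simp only [F.kap_self, F.hck]; exact hed)
  have h := hφe e he
  rw [hd', F.kap_self] at h
  rw [h]
  exact he.1

/-- Of `z` and its image under `u`, one forms an odd pair with `x`. -/
theorem odd_choice (hu : u ∈ isolatedIn D d) (hz : z ∈ productPartners D d) (h : (u * z) ^ 2 = c) :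
    ∃ g, (g = z ∨ g = z * c) ∧ g ∈ productPartners D d ∧ OddAdj D g x ∧ Commute g c ∧ u * g * u = g * c ∧
      Commute u c ∧ (u * g) ^ 2 = c := by
  have S := F.setting
  have huD := S.isolated_mem hu
  have uu := mul_self S.root huD
  have cc := mul_self S.root F.hcD
  have hnc : ¬ Commute u z := fun hc => ne_one S.root F.hcD (h ▸ sq_of_commute uu (mul_self S.root hz.1.1) hc)
  have h4 := (S.isolated_four hu (partner_mem_isolated S.root F.hd hz) hnc).1
  obtain ⟨cu, cz, -, -⟩ := four_facts S.root huD hz.1.1 h4
  have hzu : (z * u) ^ 2 = c := by rw [four_swap S.root huD hz.1.1 h4 (h.symm ▸ F.hcD), h]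
  rw [h] at cu cz
  have huz : u * z * u = z * c := conj_of_sq (mul_self S.root hz.1.1) hzu
  have hzc : z * c ∈ productPartners D d := by
    have := conj_mem_partners S.root u hz
    rwa [inv_eq S.root huD, huz, show u * d * u = d by
      rw [(S.isolated_commute hu).eq, mul_assoc, uu, mul_one]] at this
  by_cases hzx : OddAdj D z x
  · exact ⟨z, Or.inl rfl, hz, hzx, cz.symm, huz, cu.symm, h⟩
  · refine ⟨z * c, Or.inr rfl, hzc, adj_of_product S.root (oddAdj_symm F.hxc) hz.1.1 cz hzx hzc.1.1,
      cz.symm.mul_left (Commute.refl c), ?_, cu.symm, ?_⟩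
    · rw [show u * (z * c) * u = u * z * (c * u) by group, cu.eq,
        show u * z * (u * c) = (u * z * u) * c by group, huz]
    · rw [pow_two, show u * (z * c) * (u * (z * c)) = u * z * (c * u) * z * c by group, cu.eq,
        show u * z * (u * c) * z * c = (u * z * u) * (c * z) * c by group, huz, cz.eq,
        show z * c * (z * c) * c = z * (c * z) * (c * c) by group, cc, cz.eq,
        show z * (z * c) * 1 = z * z * c by group, mul_self S.root hz.1.1, one_mul]

/-- Conjugation by `k` moves `z` by a twin. -/
theorem k_conj (hu : u ∈ isolatedIn D d) (hz : z ∈ productPartners D d) (h : (u * z) ^ 2 = c) :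
    ∃ e ∈ sameCommutingSubgroup D d, k * z * k = z * e := by
  have S := F.setting
  obtain ⟨g, hg, hgX, hgx, hgc, hugu, huc, -⟩ := F.odd_choice hu hz h
  have he := S.twin_mem_group (F.core hgX hgc hgx hu huc hugu)
  have e1 : k * g * k = g * (g * k) ^ 2 := conj_of_sq (mul_self S.root hgX.1.1) rfl
  rcases hg with rfl | rfl
  · exact ⟨_, he, e1⟩
  · set e := (z * c * k) ^ 2
    refine ⟨e * d, mul_mem he (S.twin_mem_group (self_mem_twins F.hd)), ?_⟩
    have e2 : k * c * k = c * d := conj_of_sq (mul_self S.root F.hcD) F.hck
    calc k * z * k = k * z * (c * c) * k := by rw [mul_self S.root F.hcD, mul_one]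
      _ = k * (z * c) * (1 * c) * k := by group
      _ = k * (z * c) * (k * k * c) * k := by rw [mul_self S.root F.hk.1.1]
      _ = (k * (z * c) * k) * (k * c * k) := by group
      _ = z * (c * e) * (c * d) := by rw [e1, e2]; group
      _ = z * (e * c) * (c * d) := by rw [(F.c_commute he).eq]
      _ = z * e * (c * c) * d := by group
      _ = _ := by rw [mul_self S.root F.hcD, mul_one]; group

/-- Two line partners of `d` do not have centre `c`. -/
theorem pair_kill (hu : u ∈ productPartners D d) (hz : z ∈ productPartners D d) (h : (u * z) ^ 2 = c) : False := by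
  have S := F.setting
  have huW := partner_mem_isolated S.root F.hd hu
  have hzW := partner_mem_isolated S.root F.hd hz
  have h' : (z * u) ^ 2 = c := by
    rw [sq_swap_inv (mul_self S.root hu.1.1) (mul_self S.root hz.1.1), h, inv_eq S.root F.hcD]
  obtain ⟨e₁, he₁, h1⟩ := F.k_conj hzW hu h'
  obtain ⟨e₂, he₂, h2⟩ := F.k_conj huW hz h
  have e3 : k * c * k = c * d := conj_of_sq (mul_self S.root F.hcD) F.hck
  have kk := mul_self S.root F.hk.1.1
  have e4 : k * c * k = c := by
    have hm := mul_mem he₁ he₂
    have a1 : Commute e₁ z := (S.commute_of_group F.hd he₁ hzW).symm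
    have a2 : Commute (e₁ * e₂) u := (S.commute_of_group F.hd hm huW).symm
    have a3 : Commute (e₁ * e₂) z := (S.commute_of_group F.hd hm hzW).symm
    have e5 : k * (u * z) * k = u * z * (e₁ * e₂) := by
      calc k * (u * z) * k = k * u * (1 * z) * k := by group
        _ = k * u * (k * k * z) * k := by rw [kk]
        _ = (k * u * k) * (k * z * k) := by group
        _ = u * (e₁ * z) * e₂ := by rw [h1, h2]; group
        _ = u * (z * e₁) * e₂ := by rw [a1.eq]
        _ = _ := by group
    rw [← h, pow_two, show k * (u * z * (u * z)) * k = k * (u * z) * 1 * (u * z) * k by group, ← kk,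
      show k * (u * z) * (k * k) * (u * z) * k = (k * (u * z) * k) * (k * (u * z) * k) by group, e5,
      show u * z * (e₁ * e₂) * (u * z * (e₁ * e₂)) = u * z * ((e₁ * e₂) * (u * z)) * (e₁ * e₂) by group,
      (a2.mul_right a3).eq,
      show u * z * (u * z * (e₁ * e₂)) * (e₁ * e₂) = u * z * (u * z) * ((e₁ * e₂) * (e₁ * e₂)) by group,
      S.group_mul_self F.hd hm, mul_one]
  rw [e3] at e4
  exact ne_one S.root F.hd (mul_left_cancel (e4.trans (mul_one c).symm))

end Frame

end Cfsg.Lib.RootInv.Structure
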